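import Mathlib
import Groth.Agent.Sweep9Lib.SplitAlg

/-! The staircase monomials form a basis of `R[t]/(e_i(t) - a_i)`. -/

set_option autoImplicit false
set_option maxHeartbeats 1000000
universe u

namespace Groth.Agent.StaircaseLib

open Polynomial Groth.Agent.Sweep9Lib in
theorem exists_staircase_basis_splitAlg : ∀ (r : ℕ) {S : Type u} [CommRing S] [Nontrivial S] (p : S[X]),
    p.Monic → p.natDegree = r → ∃ B : Module.Basis (Π i : Fin r, Fin (r - (i : ℕ))) S (SplitAlg r p),
      ∀ d, B d = ∏ i, sroot r p i ^ (d i : ℕ)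
  | 0, S, _, _, p, _, _ => by
    let e : SplitAlg 0 p ≃ₐ[S] S :=
      ((Ideal.quotientEquivAlgOfEq S (show splitIdeal 0 p = ⊥ by simp [splitIdeal])).trans
        (AlgEquiv.quotientBot S _)).trans (MvPolynomial.isEmptyAlgEquiv S (Fin 0))
    refine ⟨((Module.Basis.singleton (Fin 1) S).map e.symm.toLinearEquiv).reindex (Equiv.ofUnique _ _), fun d => ?_⟩
    simp
  | r + 1, S, _, _, p, hp, hr => by
    let pb := AdjoinRoot.powerBasis' hp
    let S' := AdjoinRoot p
    have : Nontrivial S' := by
      have h1 : Nonempty (Fin pb.dim) := ⟨⟨0, by rw [AdjoinRoot.powerBasis'_dim, hr]; omega⟩⟩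
      exact pb.basis.repr.toEquiv.nontrivial
    let α := AdjoinRoot.root p
    let pS := p.map (algebraMap S S')
    have hroot : pS.IsRoot α := AdjoinRoot.isRoot_root p
    let q := pS /ₘ (X - C α)
    have hpq : (X - C α) * q = pS := mul_divByMonic_eq_iff_isRoot.2 hroot
    have hq : q.Monic := (monic_X_sub_C α).of_mul_monic_left (hpq ▸ hp.map _)
    have hqd : q.natDegree = r := by
      rw [natDegree_divByMonic _ (monic_X_sub_C α), hp.natDegree_map, hr, natDegree_X_sub_C]
      omega
    obtain ⟨b, hb⟩ := exists_staircase_basis_splitAlg r q hq hqd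
    have hT := map_eq_prod_sroot r hq hqd
    have hP := map_eq_prod_sroot (r + 1) hp hr
    let T' := SplitAlg r q
    let T := SplitAlg (r + 1) p
    have hΦ : p.map (algebraMap S T') =
        ∏ i, (X - C ((Fin.cons (algebraMap S' T' α) (sroot r q) : Fin (r + 1) → T') i)) := by
      rw [Fin.prod_univ_succ]
      simp only [Fin.cons_zero, Fin.cons_succ]
      rw [← hT, IsScalarTower.algebraMap_eq S S' T', ← Polynomial.map_map,
        ← show (X - C α) * q = p.map (algebraMap S S') from hpq, Polynomial.map_mul, Polynomial.map_sub,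
        Polynomial.map_X, Polynomial.map_C]
    let Φ : T →ₐ[S] T' := splitLift (r + 1) p _ hΦ
    have hx0 : p.eval₂ (Algebra.ofId S T) (sroot (r + 1) p 0) = 0 := by
      change p.eval₂ (algebraMap S T) _ = 0
      rw [← Polynomial.eval_map, hP, Fin.prod_univ_succ]
      simp
    let ι : S' →ₐ[S] T := AdjoinRoot.liftAlgHom p (Algebra.ofId S T) _ hx0
    have hια : ι α = sroot (r + 1) p 0 := AdjoinRoot.lift_root hx0
    letI : Algebra S' T := ι.toRingHom.toAlgebra
    haveI : IsScalarTower S S' T := IsScalarTower.of_algebraMap_eq fun s => (ι.commutes s).symm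
    have hΨ : q.map (algebraMap S' T) = ∏ i : Fin r, (X - C (sroot (r + 1) p i.succ)) := by
      have h1 := hP
      rw [Fin.prod_univ_succ, IsScalarTower.algebraMap_eq S S' T, ← Polynomial.map_map,
        ← show (X - C α) * q = p.map (algebraMap S S') from hpq, Polynomial.map_mul, Polynomial.map_sub,
        Polynomial.map_X, Polynomial.map_C, show algebraMap S' T α = sroot (r + 1) p 0 from hια] at h1
      exact (monic_X_sub_C _).isRegular.left h1
    let Ψ : T' →ₐ[S'] T := splitLift r q _ hΨ
    let Ψ' : T' →ₐ[S] T := Ψ.restrictScalars S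
    have h12 : Ψ'.comp Φ = AlgHom.id S T := splitAlg_algHom_ext fun i => by
      rw [AlgHom.comp_apply, AlgHom.id_apply, splitLift_sroot]
      refine Fin.cases ?_ (fun j => ?_) i
      · rw [Fin.cons_zero]; exact (Ψ.commutes α).trans hια
      · rw [Fin.cons_succ]; exact splitLift_sroot _ _ _ hΨ j
    have hΦι : Φ.comp ι = IsScalarTower.toAlgHom S S' T' := AdjoinRoot.algHom_ext (by
      rw [AlgHom.comp_apply]
      change Φ (ι α) = algebraMap S' T' α
      rw [hια, splitLift_sroot, Fin.cons_zero])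
    let Φ' : T →ₐ[S'] T' :=
      { Φ.toRingHom with commutes' := fun s => AlgHom.congr_fun hΦι s }
    have h21 : Φ'.comp Ψ = AlgHom.id S' T' := splitAlg_algHom_ext fun j => by
      rw [AlgHom.comp_apply, AlgHom.id_apply, splitLift_sroot]
      change Φ (sroot (r + 1) p j.succ) = _
      rw [splitLift_sroot, Fin.cons_succ]
    let e : T' ≃ₐ[S] T := AlgEquiv.ofAlgHom Ψ' Φ h12
      (AlgHom.ext fun x => AlgHom.congr_fun h21 x)
    let B := (pb.basis.smulTower b).map e.toLinearEquiv
    let σ : Fin pb.dim × (Π i : Fin r, Fin (r - (i : ℕ))) ≃ (Π i : Fin (r + 1), Fin (r + 1 - (i : ℕ))) :=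
      ((finCongr (show pb.dim = r + 1 - ((0 : Fin (r + 1)) : ℕ) by
        rw [AdjoinRoot.powerBasis'_dim, hr, Fin.val_zero, Nat.sub_zero])).prodCongr
        (Equiv.piCongrRight fun i : Fin r => finCongr (show r - (i : ℕ) = r + 1 - (i.succ : ℕ) by
          rw [Fin.val_succ]; omega))).trans (Fin.consEquiv fun i => Fin (r + 1 - (i : ℕ)))
    refine ⟨B.reindex σ, σ.surjective.forall.2 fun x => ?_⟩
    rw [Module.Basis.reindex_apply, Equiv.symm_apply_apply, Fin.prod_univ_succ]
    obtain ⟨k, d⟩ := x
    rw [show B (k, d) = Ψ (pb.basis k • b d) by simp [B, Module.Basis.smulTower_apply, e, Ψ']]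
    rw [map_smul, hb, PowerBasis.basis_eq_pow, Algebra.smul_def, map_pow,
      show algebraMap S' T pb.gen = sroot (r + 1) p 0 from hια, map_prod]
    congr 1
    refine Finset.prod_congr rfl fun i _ => ?_
    rw [map_pow, splitLift_sroot]
    rfl

theorem exists_basis (n : ℕ) {R : Type u} [CommRing R] (a : Fin n → R) :
    ∃ B : Module.Basis (Π i : Fin n, Fin (n - (i : ℕ))) R
      (MvPolynomial (Fin n) R ⧸ Ideal.span (Set.range fun i : Fin n =>
        MvPolynomial.esymm (Fin n) R ((i : ℕ) + 1) - MvPolynomial.C (a i))),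
      ∀ d, B d = Ideal.Quotient.mk _ (∏ i, MvPolynomial.X i ^ (d i : ℕ)) := by
  rcases subsingleton_or_nontrivial R with h | h
  · have : Subsingleton (MvPolynomial (Fin n) R ⧸ Ideal.span (Set.range fun i : Fin n =>
        MvPolynomial.esymm (Fin n) R ((i : ℕ) + 1) - MvPolynomial.C (a i))) := Module.subsingleton R _
    exact ⟨Module.Basis.ofRepr
      { toFun := 0, invFun := 0, map_add' := fun _ _ => by simp, map_smul' := fun _ _ => by simp,
        left_inv := fun _ => Subsingleton.elim _ _, right_inv := fun _ => Subsingleton.elim _ _ },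
      fun d => Subsingleton.elim _ _⟩
  · obtain ⟨p, hd, hp, hI⟩ := Sweep9Lib.splitIdeal_esymm (S := R) n a
    obtain ⟨B₀, hB₀⟩ := exists_staircase_basis_splitAlg n p hp (hd h)
    refine ⟨B₀.map (Ideal.quotientEquivAlgOfEq R hI.symm).toLinearEquiv, fun d => ?_⟩
    simp [hB₀, Sweep9Lib.sroot, map_prod, map_pow]

end Groth.Agent.StaircaseLib
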